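import Mathlib
import Cfsg.Agent.Lib.Coprime.Action
import Cfsg.Agent.Lib.PGroup.Frattini

/-!
Coprime action given by a `MulDistribMulAction`: invariant Sylow subgroups, invariant complements
in elementary abelian groups, and the Frattini quotient of a p-group.
-/

set_option autoImplicit false
set_option linter.style.haveILetI false
open Pointwise

namespace CfsgLib.Coprime85

/-- An invariant subgroup of full `p`-power order exists under coprime action. -/
theorem exists_invariant_sylow {A G : Type*} [Group A] [Finite A] [Group G] [Finite G]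
    [MulDistribMulAction A G] (hcop : (Nat.card A).Coprime (Nat.card G))
    (hsol : Group.IsSolvable A ∨ Group.IsSolvable G) (p : ℕ) [Fact p.Prime] :
    ∃ P : Sylow p G, ∀ a : A, ∀ x ∈ (P : Subgroup G), a • x ∈ (P : Subgroup G) := by
  let φ := MulDistribMulAction.toMulAut A G
  let H := G ⋊[φ] A
  haveI : Finite H := Finite.of_equiv (G × A) SemidirectProduct.equivProd.symm
  let i : G →* H := SemidirectProduct.inl
  let j : A →* H := SemidirectProduct.inr
  let eG : G ≃* i.range := MonoidHom.ofInjective SemidirectProduct.inl_injective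
  let eA : A ≃* j.range := MonoidHom.ofInjective SemidirectProduct.inr_injective
  have hn : j.range ≤ Subgroup.normalizer (i.range : Set H) :=
    Subgroup.le_normalizer_iff.2 fun a ha x hx => by
      obtain ⟨b, rfl⟩ := ha
      obtain ⟨y, rfl⟩ := hx
      refine ⟨φ b y, ?_⟩
      rw [← map_inv]
      exact SemidirectProduct.inl_aut (φ := φ) b y
  have hc : (Nat.card j.range).Coprime (Nat.card i.range) := by
    rwa [← Nat.card_congr eA.toEquiv, ← Nat.card_congr eG.toEquiv]
  have hs : Group.IsSolvable j.range ∨ Group.IsSolvable i.range := hsol.imp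
    (fun h => @Group.isSolvable_of_surjective _ _ _ _ eA.toMonoidHom eA.surjective h)
    (fun h => @Group.isSolvable_of_surjective _ _ _ _ eG.toMonoidHom eG.surjective h)
  obtain ⟨P, hP⟩ := CfsgLib.Coprime.exists_invariant_sylow j.range i.range hn hc hs p
  refine ⟨Sylow.ofCard ((P : Subgroup i.range).comap eG.toMonoidHom) ?_, fun a x hx => ?_⟩
  · rw [Subgroup.comap_equiv_eq_map_symm', Subgroup.card_map_of_injective eG.symm.injective,
      P.card_eq_multiplicity, ← Nat.card_congr eG.toEquiv]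
  · rw [Sylow.coe_ofCard, Subgroup.mem_comap] at hx ⊢
    have h1 : i x ∈ (P : Subgroup i.range).map i.range.subtype := ⟨eG x, hx, rfl⟩
    have h2 := CfsgLib.Coprime.mem_normalizer_conj (hP ⟨a, rfl⟩) h1
    obtain ⟨y, hy, he⟩ := h2
    have h4 : j a * i x * (j a)⁻¹ = i (a • x) := by
      rw [← map_inv]
      exact (SemidirectProduct.inl_aut (φ := φ) a x).symm
    have h3 : y = eG (a • x) := Subtype.ext (he.trans h4)
    rwa [h3] at hy

/-- Maschke for additive endomorphisms of an `𝔽_p`-space. -/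
theorem exists_invariant_compl_add {A V : Type*} [Group A] [Finite A] [AddCommGroup V]
    (p : ℕ) [Fact p.Prime] [Module (ZMod p) V] (hA : ¬ p ∣ Nat.card A)
    (φ : A → V →+ V) (h1 : ∀ x, φ 1 x = x) (hmul : ∀ a b x, φ (a * b) x = φ a (φ b x))
    (W : AddSubgroup V) (hW : ∀ a, ∀ x ∈ W, φ a x ∈ W) :
    ∃ C : AddSubgroup V, (∀ a, ∀ x ∈ C, φ a x ∈ C) ∧ W ⊓ C = ⊥ ∧ W ⊔ C = ⊤ := by
  let ρ : Representation (ZMod p) A V :=
    { toFun := fun a => AddMonoidHom.toZModLinearMap p (φ a)
      map_one' := LinearMap.ext fun x => h1 x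
      map_mul' := fun a b => LinearMap.ext fun x => hmul a b x }
  haveI : NeZero (Nat.card A : ZMod p) := ⟨fun h => hA ((ZMod.natCast_eq_zero_iff _ _).1 h)⟩
  let E : Submodule (ZMod p) V := AddSubgroup.toZModSubmodule p W
  have hE : ∀ (g : A), ∀ x ∈ E, ρ g x ∈ E := fun g x hx => hW g x hx
  let e := Subrepresentation.subrepresentationSubmoduleOrderIso (ρ := ρ)
  obtain ⟨q, hq⟩ := exists_isCompl (e ⟨E, fun g _ hx => hE g _ hx⟩)
  have h' : IsCompl (⟨E, fun g _ hx => hE g _ hx⟩ : Subrepresentation ρ) (e.symm q) :=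
    (e.isCompl_iff).2 (by rwa [OrderIso.apply_symm_apply])
  have hinf : E ⊓ (e.symm q).toSubmodule = ⊥ :=
    congrArg Subrepresentation.toSubmodule h'.inf_eq_bot
  have hsup : E ⊔ (e.symm q).toSubmodule = ⊤ :=
    congrArg Subrepresentation.toSubmodule h'.sup_eq_top
  refine ⟨(e.symm q).toSubmodule.toAddSubgroup,
    fun a x hx => (e.symm q).apply_mem_toSubmodule a hx, ?_, ?_⟩
  · refine (AddSubgroup.eq_bot_iff_forall _).2 fun x hx => ?_
    have : x ∈ E ⊓ (e.symm q).toSubmodule := ⟨hx.1, hx.2⟩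
    rw [hinf, Submodule.mem_bot] at this
    exact this
  · refine eq_top_iff.2 fun x _ => ?_
    have : x ∈ E ⊔ (e.symm q).toSubmodule := by rw [hsup]; trivial
    obtain ⟨w, hw, c, hc, rfl⟩ := Submodule.mem_sup.1 this
    exact AddSubgroup.add_mem_sup hw hc

/-- Maschke in multiplicative language: an invariant subgroup of an elementary abelian `p`-group
under a `p'`-group has an invariant complement. -/
theorem exists_invariant_compl {A Q : Type*} [Group A] [Finite A] [CommGroup Q] [Finite Q]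
    (p : ℕ) [Fact p.Prime] (hexp : ∀ x : Q, x ^ p = 1) (hA : ¬ p ∣ Nat.card A)
    (f : A → Q →* Q) (h1 : ∀ x, f 1 x = x) (hmul : ∀ a b x, f (a * b) x = f a (f b x))
    (W : Subgroup Q) (hW : ∀ a, ∀ x ∈ W, f a x ∈ W) :
    ∃ C : Subgroup Q, (∀ a, ∀ x ∈ C, f a x ∈ C) ∧ W ⊓ C = ⊥ ∧ W ⊔ C = ⊤ := by
  letI : Module (ZMod p) (Additive Q) := AddCommGroup.zmodModule fun x => hexp x.toMul
  obtain ⟨C, hC, hi, hs⟩ := exists_invariant_compl_add p hA (fun a => MonoidHom.toAdditive (f a))
    (fun x => congrArg Additive.ofMul (h1 x.toMul))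
    (fun a b x => congrArg Additive.ofMul (hmul a b x.toMul))
    (Subgroup.toAddSubgroup W) (fun a x hx => hW a _ hx)
  refine ⟨AddSubgroup.toSubgroup' C, fun a x hx => hC a (Additive.ofMul x) hx, ?_, ?_⟩
  · refine (Subgroup.eq_bot_iff_forall _).2 fun x hx => ?_
    have : Additive.ofMul x ∈ Subgroup.toAddSubgroup W ⊓ C := ⟨hx.1, hx.2⟩
    rw [hi, AddSubgroup.mem_bot] at this
    exact this
  · refine eq_top_iff.2 fun x _ => ?_
    have : Additive.ofMul x ∈ Subgroup.toAddSubgroup W ⊔ C := by rw [hs]; trivial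
    obtain ⟨w, hw, c, hc, hwc⟩ := AddSubgroup.mem_sup.1 this
    have h : w.toMul * c.toMul = x := hwc
    rw [← h]
    exact Subgroup.mul_mem_sup hw hc

/-- In a `p`-group, a subgroup containing the Frattini subgroup and invariant under a `p'`-group
of automorphisms has an invariant complement modulo the Frattini subgroup. -/
theorem exists_invariant_compl_mod_frattini {A G : Type*} [Group A] [Finite A] [Group G] [Finite G]
    [MulDistribMulAction A G] {p : ℕ} [Fact p.Prime] (hG : IsPGroup p G) (hA : ¬ p ∣ Nat.card A)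
    (L : Subgroup G) (hΦ : frattini G ≤ L) (hL : ∀ a : A, ∀ x ∈ L, a • x ∈ L) :
    ∃ N : Subgroup G, (∀ a : A, ∀ x ∈ N, a • x ∈ N) ∧ frattini G ≤ N ∧
      L ⊓ N = frattini G ∧ L ⊔ N = ⊤ := by
  let Φ := frattini G
  haveI : Φ.Normal := inferInstance
  have hcomm : IsMulCommutative (G ⧸ Φ) :=
    Subgroup.Normal.quotient_commutative_iff_commutator_le.2
      (by
        simp only [Φ, frattini, Order.radical, le_iInf_iff]
        exact fun M hM => CfsgLib.PGroup.commutator_le_of_isCoatom hG hM)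
  letI : CommGroup (G ⧸ Φ) := { mul_comm := hcomm.is_comm.comm }
  have hexp : ∀ x : G ⧸ Φ, x ^ p = 1 := fun x => by
    obtain ⟨y, rfl⟩ := QuotientGroup.mk'_surjective Φ x
    rw [← map_pow]
    exact (QuotientGroup.eq_one_iff _).2 (CfsgLib.PGroup.pow_mem_frattini hG y)
  have hinv : ∀ a : A, Φ ≤ Φ.comap (MulDistribMulAction.toMonoidHom G a) := fun a => by
    have := (Subgroup.characteristic_iff_comap_eq.1 (inferInstance : (frattini G).Characteristic))
      (MulDistribMulAction.toMulEquiv G a)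
    exact this.ge
  let f : A → G ⧸ Φ →* G ⧸ Φ := fun a =>
    QuotientGroup.map Φ Φ (MulDistribMulAction.toMonoidHom G a) (hinv a)
  obtain ⟨C, hC, hWC, hWC'⟩ := exists_invariant_compl p hexp hA f
    (fun x => by
      obtain ⟨y, rfl⟩ := QuotientGroup.mk'_surjective Φ x
      exact congrArg (QuotientGroup.mk' Φ) (one_smul A y))
    (fun a b x => by
      obtain ⟨y, rfl⟩ := QuotientGroup.mk'_surjective Φ x
      exact congrArg (QuotientGroup.mk' Φ) (mul_smul a b y))
    (L.map (QuotientGroup.mk' Φ))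
    (by
      rintro a _ ⟨y, hy, rfl⟩
      exact ⟨a • y, hL a y hy, rfl⟩)
  have hsurj := QuotientGroup.mk'_surjective Φ
  have hcm : (L.map (QuotientGroup.mk' Φ)).comap (QuotientGroup.mk' Φ) = L :=
    Subgroup.comap_map_eq_self (by rwa [QuotientGroup.ker_mk'])
  refine ⟨C.comap (QuotientGroup.mk' Φ), fun a x hx => hC a _ hx, ?_, ?_, ?_⟩
  · exact (QuotientGroup.ker_mk' Φ).ge.trans (MonoidHom.ker_le_comap _ _)
  · conv_lhs => rw [← hcm]
    rw [← Subgroup.comap_inf, hWC, MonoidHom.comap_bot, QuotientGroup.ker_mk']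
  · conv_lhs => rw [← hcm]
    rw [Subgroup.comap_sup_eq _ _ _ hsurj, hWC', Subgroup.comap_top]

end CfsgLib.Coprime85
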